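import Mathlib

/-! Uncountable algebraically closed fields of the same cardinality are isomorphic over any countable
common subring. -/

open Cardinal

namespace Groth.Agent.CountField

universe u

theorem exists_ringEquiv {R : Type u} [CommRing R] [Nontrivial R] (hR : #R ≤ ℵ₀) {K L : Type u}
    [Field K] [Field L] [IsAlgClosed K] [IsAlgClosed L] [Algebra R K] [Algebra R L]
    [FaithfulSMul R K] [FaithfulSMul R L] (hK : ℵ₀ < #K) (hKL : #K = #L) :
    ∃ σ : K ≃+* L, ∀ r : R, σ (algebraMap R K r) = algebraMap R L r := by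
  obtain ⟨s, hs⟩ := exists_isTranscendenceBasis R K
  obtain ⟨t, ht⟩ := exists_isTranscendenceBasis R L
  have h1 := IsAlgClosed.cardinal_eq_cardinal_transcendence_basis_of_aleph0_lt' _ hs hR hK
  have h2 := IsAlgClosed.cardinal_eq_cardinal_transcendence_basis_of_aleph0_lt' _ ht hR (hKL ▸ hK)
  obtain ⟨e⟩ := Cardinal.eq.1 (h1.symm.trans (hKL.trans h2))
  letI := IsAlgClosed.isAlgClosure_of_transcendence_basis _ hs
  letI := IsAlgClosed.isAlgClosure_of_transcendence_basis _ ht
  let g : Algebra.adjoin R (Set.range (Subtype.val : s → K)) ≃ₐ[R]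
      Algebra.adjoin R (Set.range (Subtype.val : t → L)) :=
    hs.1.aevalEquiv.symm.trans ((MvPolynomial.renameEquiv R e).trans ht.1.aevalEquiv)
  refine ⟨IsAlgClosure.equivOfEquiv K L g.toRingEquiv, fun r => ?_⟩
  rw [IsScalarTower.algebraMap_apply R (Algebra.adjoin R (Set.range (Subtype.val : s → K))) K,
    IsAlgClosure.equivOfEquiv_algebraMap]
  show algebraMap _ L (g (algebraMap R _ r)) = _
  rw [g.commutes, ← IsScalarTower.algebraMap_apply]

theorem mk_le_of_finiteType (k A : Type u) [Field k] [Infinite k] [CommRing A] [Algebra k A]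
    [Algebra.FiniteType k A] : #A ≤ #k := by
  obtain ⟨n, f, hf⟩ := Algebra.FiniteType.iff_quotient_mvPolynomial''.1 ‹Algebra.FiniteType k A›
  refine (Cardinal.mk_le_of_surjective hf).trans ?_
  refine (MvPolynomial.cardinalMk_le_max_lift).trans ?_
  have h : ℵ₀ ≤ #k := Cardinal.infinite_iff.1 ‹_›
  simp only [Cardinal.lift_uzero, Cardinal.mk_fin, Cardinal.lift_natCast]
  exact max_le (max_le le_rfl ((Cardinal.natCast_le_aleph0 (n := n)).trans h)) h

theorem countable_of_finiteType_int (A : Type u) [CommRing A] [Algebra.FiniteType ℤ A] :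
    #A ≤ ℵ₀ := by
  obtain ⟨n, f, hf⟩ := Algebra.FiniteType.iff_quotient_mvPolynomial''.1 ‹Algebra.FiniteType ℤ A›
  have h : #(MvPolynomial (Fin n) ℤ) ≤ ℵ₀ := by
    refine (MvPolynomial.cardinalMk_le_max_lift).trans ?_
    simp [Cardinal.natCast_le_aleph0]
  rw [Cardinal.mk_le_aleph0_iff] at h
  haveI := h
  haveI := hf.countable
  exact Cardinal.mk_le_aleph0

end Groth.Agent.CountField
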