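import Groth.Agent.CountField.Field
import Groth.Agent.ConsPropLib.NoethApprox
import Groth.Agent.ConsPropLib.Approx
import Mathlib

/-! A family over an uncountable algebraically closed field: very general closed fibres are isomorphic
to the geometric generic fibre. -/

open CategoryTheory CategoryTheory.Limits AlgebraicGeometry Cardinal

set_option backward.isDefEq.respectTransparency false
set_option backward.isDefEq.respectTransparency.types false
set_option linter.style.haveILetI false

namespace Groth.Agent.CountField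

universe u

theorem fromSpecResidueField_eq {T : Scheme.{u}} {V : T.Opens} (hV : IsAffineOpen V) {t : T} (ht : t ∈ V) :
    T.fromSpecResidueField t = Spec.map (T.evaluation V t ht) ≫ hV.fromSpec := by
  rw [Scheme.fromSpecResidueField, ← hV.fromSpecStalk_eq_fromSpecStalk ht, IsAffineOpen.fromSpecStalk,
    ← Scheme.germ_residue, Spec.map_comp, Category.assoc]

theorem exists_model {A : CommRingCat.{u}} {P : Scheme.{u}} (g : P ⟶ Spec A)
    [LocallyOfFinitePresentation g] [QuasiCompact g] [QuasiSeparated g] :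
    ∃ (s : Finset A) (P₀ : Scheme.{u})
      (g₀ : P₀ ⟶ Spec (CommRingCat.of (Algebra.adjoin ℤ (s : Set A)))) (q : P ⟶ P₀),
      IsPullback q g g₀ (Spec.map (CommRingCat.ofHom (Algebra.adjoin ℤ (s : Set A)).val.toRingHom)) := by
  obtain ⟨i, P₀, g₀, q, hm⟩ := ConsPropLib.hasModel (ConsPropLib.NoethApprox.isLimit A)
    (c := ConsPropLib.NoethApprox.cone A) g
  exact ⟨i.unop, P₀, g₀, q, hm.sq⟩

/-- Base changes of a model along two field valued points identified by a field isomorphism. -/
theorem nonempty_iso {A B : CommRingCat.{u}} {P P₀ : Scheme.{u}} {g : P ⟶ Spec A} {g₀ : P₀ ⟶ Spec B}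
    {q : P ⟶ P₀} {ι : B ⟶ A} (sq : IsPullback q g g₀ (Spec.map ι)) {K L : CommRingCat.{u}}
    (φ : A ⟶ K) (ψ : A ⟶ L) (σ : K ≅ L) (h : ι ≫ φ ≫ σ.hom = ι ≫ ψ) :
    Nonempty (pullback g (Spec.map φ) ≅ pullback g (Spec.map ψ)) := by
  have e1 := ((IsPullback.of_hasPullback g (Spec.map φ)).paste_horiz sq).isoPullback
  have e2 := ((IsPullback.of_hasPullback g (Spec.map ψ)).paste_horiz sq).isoPullback
  have h' : Spec.map ψ ≫ Spec.map ι = Spec.map σ.hom ≫ Spec.map φ ≫ Spec.map ι := by
    rw [← Spec.map_comp, ← Spec.map_comp, ← Spec.map_comp, ← h, Category.assoc]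
  have e3 : pullback g₀ (Spec.map σ.hom ≫ Spec.map φ ≫ Spec.map ι) ≅
      pullback g₀ (Spec.map φ ≫ Spec.map ι) :=
    asIso (pullback.map g₀ (Spec.map σ.hom ≫ Spec.map φ ≫ Spec.map ι) g₀ (Spec.map φ ≫ Spec.map ι)
      (𝟙 _) (Spec.map σ.hom) (𝟙 _) (by simp) (by simp))
  exact ⟨e1 ≪≫ e3.symm ≪≫ pullback.congrHom rfl h'.symm ≪≫ e2.symm⟩

theorem main (k : Type u) [Field k] [IsAlgClosed k]
    [Uncountable k] (T X : Scheme.{u}) (sT : T ⟶ Spec (CommRingCat.of k)) [IsIntegral T]
    [LocallyOfFiniteType sT] (f : X ⟶ T) [LocallyOfFiniteType f] [QuasiCompact f] :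
    ∃ Z : ℕ → TopologicalSpace.Closeds T, (∀ n, (Z n : Set T) ≠ Set.univ) ∧
      ∀ t : T, IsClosed ({t} : Set T) → (∀ n, t ∉ Z n) →
        Nonempty (f.fiber t ≅ pullback f (Spec.map (CommRingCat.ofHom (algebraMap
          (T.residueField (genericPoint T)) (AlgebraicClosure (T.residueField (genericPoint T))))) ≫
            T.fromSpecResidueField (genericPoint T))) := by
  classical
  haveI : IsLocallyNoetherian T := LocallyOfFiniteType.isLocallyNoetherian sT
  haveI : IsLocallyNoetherian X := LocallyOfFiniteType.isLocallyNoetherian f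
  obtain ⟨_, ⟨V, hV, rfl⟩, hηV, -⟩ := T.isBasis_affineOpens.exists_subset_of_mem_open
    (Set.mem_univ (genericPoint T)) isOpen_univ
  let A : CommRingCat.{u} := Γ(T, V)
  have hft : (sT.appLE ⊤ V (by simp)).hom.FiniteType :=
    HasRingHomProperty.appLE @LocallyOfFiniteType sT inferInstance ⟨⊤, isAffineOpen_top _⟩ ⟨V, hV⟩ (by simp)
  let φk : k →+* A := (sT.appLE ⊤ V (by simp)).hom.comp
    (Scheme.ΓSpecIso (CommRingCat.of k)).inv.hom
  letI := φk.toAlgebra
  haveI : Algebra.FiniteType k A := RingHom.finiteType_algebraMap.1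
    (hft.comp (RingHom.FiniteType.of_surjective _
      (Scheme.ΓSpecIso (CommRingCat.of k)).commRingCatIsoToRingEquiv.symm.surjective))
  haveI : Infinite k := inferInstance
  let P := pullback f hV.fromSpec
  let g : P ⟶ Spec A := pullback.snd f hV.fromSpec
  haveI : QuasiCompact g := MorphismProperty.pullback_snd _ _ inferInstance
  haveI : LocallyOfFiniteType g := MorphismProperty.pullback_snd _ _ inferInstance
  haveI : IsNoetherianRing A := IsLocallyNoetherian.component_noetherian ⟨V, hV⟩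
  haveI : IsLocallyNoetherian P := LocallyOfFiniteType.isLocallyNoetherian g
  haveI : QuasiSeparated g := (HasAffineProperty.iff_of_isAffine (P := @QuasiSeparated)).2 inferInstance
  obtain ⟨s, P₀, g₀, q, sq⟩ := exists_model g
  let B := Algebra.adjoin ℤ (s : Set A)
  haveI : Algebra.FiniteType ℤ B := Algebra.FiniteType.adjoin_of_finite (Finset.finite_toSet _)
  have hB : #B ≤ ℵ₀ := countable_of_finiteType_int B
  haveI : Countable B := Cardinal.mk_le_aleph0_iff.1 hB
  haveI : Nonempty V := ⟨⟨_, hηV⟩⟩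
  haveI : Nonempty {b : B // b ≠ 0} := ⟨⟨1, one_ne_zero⟩⟩
  obtain ⟨en, hen⟩ := exists_surjective_nat {b : B // b ≠ 0}
  refine ⟨fun n => ⟨((T.basicOpen ((en n).1 : A) : T.Opens) : Set T)ᶜ,
    (T.basicOpen ((en n).1 : A)).isOpen.isClosed_compl⟩, fun n h => ?_, fun t ht hZ => ?_⟩
  · have h0 : T.basicOpen ((en n).1 : A) = ⊥ := by
      refine TopologicalSpace.Opens.ext ?_
      exact Set.compl_univ_iff.1 h
    exact (en n).2 (Subtype.ext ((AlgebraicGeometry.basicOpen_eq_bot_iff _).1 h0))
  have htb : ∀ b : B, b ≠ 0 → t ∈ T.basicOpen (b : A) := fun b hb => by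
    obtain ⟨n, hn⟩ := hen ⟨b, hb⟩
    have := hZ n
    simp only [hn] at this
    exact not_not.1 this
  have htV : t ∈ V := T.basicOpen_le _ (htb 1 one_ne_zero)
  let κt := T.residueField t
  let κη := T.residueField (genericPoint T)
  let L := AlgebraicClosure κη
  let φ : A ⟶ κt := T.evaluation V t htV
  let ev : A ⟶ κη := T.evaluation V (genericPoint T) hηV
  let ψ : A ⟶ CommRingCat.of L := ev ≫ CommRingCat.ofHom (algebraMap κη L)
  have hφ : ∀ b : B, φ.hom (b : A) = 0 → b = 0 := fun b hb => by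
    by_contra hb0
    exact (T.evaluation_eq_zero_iff_notMem_basicOpen t htV (b : A)).1 hb (htb b hb0)
  have hev : ∀ a : A, ev.hom a = 0 → a = 0 := fun a ha => by
    by_contra ha0
    have hne : T.basicOpen a ≠ ⊥ := fun h => ha0 ((AlgebraicGeometry.basicOpen_eq_bot_iff _).1 h)
    obtain ⟨z, hz⟩ : ((T.basicOpen a : T.Opens) : Set T).Nonempty :=
      Set.nonempty_iff_ne_empty.2 fun h => hne (TopologicalSpace.Opens.ext h)
    exact (T.evaluation_eq_zero_iff_notMem_basicOpen (genericPoint T) hηV a).1 ha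
      ((genericPoint_specializes z).mem_open (T.basicOpen a).isOpen hz)
  have hψ : ∀ b : B, ψ.hom (b : A) = 0 → b = 0 := fun b hb =>
    Subtype.ext (hev _ ((algebraMap κη L).injective (hb.trans (map_zero _).symm)))
  letI : Algebra B κt := (φ.hom.comp B.val.toRingHom).toAlgebra
  letI : Algebra B L := (ψ.hom.comp B.val.toRingHom).toAlgebra
  haveI : FaithfulSMul B κt := (faithfulSMul_iff_algebraMap_injective _ _).2
    ((injective_iff_map_eq_zero _).2 hφ)
  haveI : FaithfulSMul B L := (faithfulSMul_iff_algebraMap_injective _ _).2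
    ((injective_iff_map_eq_zero _).2 hψ)
  let ek : κt ≃+* k := (residueFieldIsoBase sT t ht).commRingCatIsoToRingEquiv
  haveI : IsAlgClosed κt := IsAlgClosed.of_ringEquiv _ _ ek.symm
  have hk : ℵ₀ < #k := Cardinal.aleph0_lt_mk
  have hκt : #κt = #k := Cardinal.mk_congr ek.toEquiv
  have hA : #A ≤ #k := mk_le_of_finiteType k A
  have hκη : #κη ≤ #k := by
    have hs : Function.Surjective (fun p : A × A => ev.hom p.1 / ev.hom p.2) := by
      intro y
      obtain ⟨x, rfl⟩ := T.residue_surjective (genericPoint T) y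
      letI := T.presheaf.algebra_section_stalk (⟨_, hηV⟩ : V)
      haveI := hV.isLocalization_stalk (⟨_, hηV⟩ : V)
      obtain ⟨⟨a, b⟩, hab⟩ := IsLocalization.surj
        (hV.primeIdealOf ⟨genericPoint T, hηV⟩).asIdeal.primeCompl x
      refine ⟨(a, b.1), ?_⟩
      have hu := IsLocalization.map_units (T.presheaf.stalk (genericPoint T)) b
      have h1 : ev.hom b.1 ≠ 0 := (hu.map (T.residue (genericPoint T)).hom).ne_zero
      rw [div_eq_iff h1]
      show ev.hom a = (T.residue (genericPoint T)).hom x * (T.residue (genericPoint T)).hom _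
      rw [← map_mul]
      exact (congrArg _ hab.symm)
    refine (Cardinal.mk_le_of_surjective hs).trans ?_
    rw [Cardinal.mk_prod, Cardinal.lift_id]
    exact (mul_le_mul' hA hA).trans (Cardinal.mul_eq_self hk.le).le
  have hL1 : #L ≤ #k :=
    (Algebra.IsAlgebraic.cardinalMk_le_max κη L).trans (max_le hκη hk.le)
  have hL2 : #k ≤ #L :=
    Cardinal.mk_le_of_injective (f := (algebraMap κη L).comp (ev.hom.comp φk)) (RingHom.injective _)
  obtain ⟨σ, hσ⟩ := exists_ringEquiv (R := B) hB (K := κt) (L := L) (hκt ▸ hk)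
    (hκt.trans (le_antisymm hL2 hL1))
  obtain ⟨e⟩ := nonempty_iso sq φ ψ σ.toCommRingCatIso (CommRingCat.hom_ext (RingHom.ext hσ))
  have h1 : T.fromSpecResidueField t = Spec.map φ ≫ hV.fromSpec := fromSpecResidueField_eq hV htV
  have h2 : Spec.map (CommRingCat.ofHom (algebraMap κη L)) ≫ T.fromSpecResidueField (genericPoint T) =
      Spec.map ψ ≫ hV.fromSpec := by
    rw [fromSpecResidueField_eq hV hηV, Spec.map_comp, Category.assoc]
  have p1 := ((IsPullback.of_hasPullback g (Spec.map φ)).paste_horiz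
    (IsPullback.of_hasPullback f hV.fromSpec)).isoPullback
  have p2 := ((IsPullback.of_hasPullback g (Spec.map ψ)).paste_horiz
    (IsPullback.of_hasPullback f hV.fromSpec)).isoPullback
  exact ⟨pullback.congrHom rfl h1 ≪≫ p1.symm ≪≫ e ≪≫ p2 ≪≫ pullback.congrHom rfl h2.symm⟩

end Groth.Agent.CountField
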